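import Groth.Agent.S16310
import Groth.Prelude.Def_W4c3irrattreebunCvg
import Mathlib.FieldTheory.IntermediateField.Adjoin.Basic
import Mathlib.FieldTheory.AlgebraicClosure
import Mathlib.FieldTheory.SeparableClosure
import Mathlib.FieldTheory.IsAlgClosed.AlgebraicClosure
import Mathlib.LinearAlgebra.FiniteDimensional.Basic
import Mathlib.RingTheory.Localization.FractionRing
import Mathlib.RingTheory.TensorProduct.Basic

/-!
# Covering diagrams along separable algebraic extensions of the ground field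
-/

set_option autoImplicit false

universe u

open W4c3irrattreebun TensorProduct IntermediateField

noncomputable section

namespace Groth.L29.Gonality

theorem sInf_eq_of_forall {A B : Set ℕ} (h1 : ∀ a ∈ A, ∃ b ≤ a, b ∈ B) (h2 : ∀ b ∈ B, ∃ a ≤ b, a ∈ A) :
    sInf A = sInf B :=
  (Groth.Agent.S16310.sInf_eq_of (A := A ∪ B) Set.subset_union_left fun c hc => hc.elim
    (fun h => ⟨c, le_rfl, h⟩) fun h => h2 c h).symm.trans
  (Groth.Agent.S16310.sInf_eq_of (A := A ∪ B) Set.subset_union_right fun c hc => hc.elim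
    (fun h => h1 c h) fun h => ⟨c, le_rfl, h⟩)

section Span

variable {k Ω : Type u} [Field k] [Field Ω] [Algebra k Ω]

/-- A finite span closed under multiplication is a field. -/
theorem exists_field_span (F : IntermediateField k Ω) {n : ℕ} (b : Fin n → Ω)
    (h1 : (1 : Ω) ∈ Submodule.span F (Set.range b))
    (hmul : ∀ i j, b i * b j ∈ Submodule.span F (Set.range b)) :
    ∃ T : IntermediateField k Ω, (T : Set Ω) = (Submodule.span F (Set.range b) : Set Ω) := by
  classical
  let N := Submodule.span F (Set.range b)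
  have hclosed : ∀ x y, x ∈ N → y ∈ N → x * y ∈ N := fun x y hx hy => by
    have h : N * N ≤ N := by
      rw [Submodule.span_mul_span]
      refine Submodule.span_le.2 ?_
      rintro _ ⟨_, ⟨i, rfl⟩, _, ⟨j, rfl⟩, rfl⟩
      exact hmul i j
    exact h (Submodule.mul_mem_mul hx hy)
  let A : Subalgebra F Ω := N.toSubalgebra h1 hclosed
  haveI : FiniteDimensional F A := by
    haveI : FiniteDimensional F N := FiniteDimensional.span_of_finite F (Set.finite_range b)
    exact Module.Finite.equiv (LinearEquiv.refl F N)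
  have hA : IsField A := (fieldOfFiniteDimensional F A).toIsField
  exact ⟨(A.toIntermediateField' hA).restrictScalars k, rfl⟩

end Span

section Diag

variable {k K Ω : Type u} [Field k] [Field K] [Field Ω] [Algebra k K] [Algebra K Ω] [Algebra k Ω]
  [IsScalarTower k K Ω]

/-- A covering diagram from subfields of a field and a spanning family. -/
theorem exists_diag (M : IntermediateField K Ω) [FiniteDimensional K M] (B : IntermediateField k Ω)
    (hB : B ≤ M.restrictScalars k) (t : Ω) (ht : Transcendental B t) (htM : t ∈ M) {n : ℕ} (b : Fin n → Ω)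
    (hb : ∀ i, b i ∈ M)
    (hspan : ∀ x ∈ M, x ∈ Submodule.span (adjoin k ((B : Set Ω) ∪ {t})) (Set.range b)) :
    ∃ e' ≤ n, ∃ D : CovDiag.{u} k K e', Algebra.IsSeparable K M → Algebra.IsSeparable K D.KC := by
  classical
  let v : M →ₐ[k] Ω := M.val.restrictScalars k
  let B' : IntermediateField k M := B.comap v
  let t' : M := ⟨t, htM⟩
  have hv : v t' = t := rfl
  have hmap : B'.map v = B := le_antisymm (by rintro _ ⟨x, hx, rfl⟩; exact hx)
    fun x hx => ⟨⟨x, hB hx⟩, hx, rfl⟩
  have ht' : Transcendental B' t' := by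
    rintro ⟨p, hp0, hp⟩
    let φ : B' →+* B := { toFun := fun x => ⟨v x.1, x.2⟩, map_one' := rfl, map_mul' := fun _ _ => rfl,
                          map_zero' := rfl, map_add' := fun _ _ => rfl }
    refine ht ⟨p.map φ, (Polynomial.map_ne_zero_iff φ.injective).2 hp0, ?_⟩
    have h2 := congrArg v hp
    rw [map_zero, Polynomial.aeval_def, ← AlgHom.coe_toRingHom, Polynomial.hom_eval₂] at h2
    rw [Polynomial.aeval_def, Polynomial.eval₂_map]
    exact h2
  let F := adjoin k ((B : Set Ω) ∪ {t})
  let F' : IntermediateField B' M := adjoin B' ({t'} : Set M)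
  let b' : Fin n → M := fun i => ⟨b i, hb i⟩
  have hF : ∀ c ∈ F, ∃ c' : F', v c'.1 = c := by
    intro c hc
    have : F ≤ (F'.restrictScalars k).map v := by
      rw [adjoin_le_iff]
      rintro x (hx | hx)
      · exact ⟨⟨x, hB hx⟩, F'.algebraMap_mem ⟨⟨x, hB hx⟩, hx⟩, rfl⟩
      · exact ⟨t', subset_adjoin B' _ rfl, (Set.mem_singleton_iff.1 hx).symm⟩
    obtain ⟨c', hc', rfl⟩ := this hc
    exact ⟨⟨c', hc'⟩, rfl⟩
  have htop : Submodule.span F' (Set.range b') = ⊤ := eq_top_iff.2 fun x _ => by
    obtain ⟨c, hc⟩ := (Submodule.mem_span_range_iff_exists_fun F).1 (hspan x.1 x.2)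
    choose c' hc' using fun i => hF (c i).1 (c i).2
    refine (Submodule.mem_span_range_iff_exists_fun F').2 ⟨c', Subtype.ext ?_⟩
    show v (∑ i, c' i • b' i) = x.1
    rw [map_sum, ← hc]
    refine Finset.sum_congr rfl fun i _ => ?_
    show v ((c' i).1 * b' i) = (c i).1 * b i
    rw [map_mul, hc']
    rfl
  haveI hfin : Module.Finite F' M := ⟨htop ▸ Submodule.fg_span (Set.finite_range b')⟩
  have hle : Module.finrank F' M ≤ n := by
    rw [← finrank_top F' M, ← htop]
    exact (finrank_range_le_card b').trans (Fintype.card_fin n).le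
  exact ⟨_, hle, { KC := M, KB := B', t := t', transc := ht', finiteT := hfin, finrank_eq := rfl }, fun h => h⟩

end Diag

variable {k K L K' : Type u} [Field k] [Field K] [Field L] [Field K'] [Algebra k K] [Algebra k L]
  [Algebra (K ⊗[k] L) K'] [IsFractionRing (K ⊗[k] L) K'] [Algebra L K'] [Algebra K K'] [Algebra k K']
  [IsScalarTower k K K'] [IsScalarTower k L K']
  (hK : ∀ x : K, algebraMap K K' x = algebraMap (K ⊗[k] L) K' (x ⊗ₜ[k] (1 : L)))
  (hL : ∀ x : L, algebraMap L K' x = algebraMap (K ⊗[k] L) K' ((1 : K) ⊗ₜ[k] x))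

include hK hL in
theorem mem_of_generators (T : Subfield K') (h1 : ∀ x, algebraMap K K' x ∈ T) (h2 : ∀ x, algebraMap L K' x ∈ T)
    (z : K') : z ∈ T := by
  have h : ∀ w : K ⊗[k] L, algebraMap (K ⊗[k] L) K' w ∈ T := fun w => by
    induction w using TensorProduct.induction_on with
    | zero => rw [map_zero]; exact zero_mem _
    | tmul x y =>
      rw [show x ⊗ₜ[k] y = (x ⊗ₜ[k] (1 : L)) * ((1 : K) ⊗ₜ[k] y) by simp, map_mul, ← hK, ← hL]
      exact mul_mem (h1 x) (h2 y)
    | add a b ha hb => rw [map_add]; exact add_mem ha hb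
  obtain ⟨a, b, -, rfl⟩ := IsFractionRing.div_surjective (K ⊗[k] L) z
  exact div_mem (h a) (h b)

include hK hL in
theorem isSeparable_K' [Algebra.IsSeparable k L] : Algebra.IsSeparable K K' := by
  have h : adjoin K (Set.range (algebraMap L K')) = ⊤ := eq_top_iff.2 fun z _ =>
    mem_of_generators hK hL (adjoin K (Set.range (algebraMap L K'))).toSubfield
      (fun x => IntermediateField.algebraMap_mem _ x) (fun x => subset_adjoin K _ ⟨x, rfl⟩) z
  haveI : Algebra.IsSeparable K (adjoin K (Set.range (algebraMap L K'))) :=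
    (isSeparable_adjoin_iff_isSeparable (F := K) (E := K')).2 fun x ⟨y, hy⟩ => hy ▸
      IsSeparable.tower_top K ((Algebra.IsSeparable.isSeparable k y).map (IsScalarTower.toAlgHom k L K') (RingHom.injective _))
  exact AlgEquiv.Algebra.isSeparable ((IntermediateField.equivOfEq h).trans IntermediateField.topEquiv)

include hK hL in
/-- From a diagram over `k` to one over `L`. -/
theorem up [Algebra.IsSeparable k L] {e : ℕ} (D : CovDiag.{u} k K e) (hD : Algebra.IsSeparable K D.KC) :
    ∃ e' ≤ e, ∃ D' : CovDiag.{u} L K' e', Algebra.IsSeparable K' D'.KC := by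
  classical
  let Ω := AlgebraicClosure K'
  haveI := hD
  haveI := isSeparable_K' hK hL
  letI aKB : Algebra D.KB Ω :=
    ((IsAlgClosed.lift : D.KC →ₐ[K] Ω).toRingHom.comp (algebraMap D.KB D.KC)).toAlgebra
  let φ : D.KC →ₐ[D.KB] Ω := { (IsAlgClosed.lift : D.KC →ₐ[K] Ω).toRingHom with commutes' := fun _ => rfl }
  have hφ : ∀ x : K, φ (algebraMap K D.KC x) = algebraMap K Ω x := fun x =>
    (IsAlgClosed.lift : D.KC →ₐ[K] Ω).commutes x
  haveI : IsScalarTower k D.KB Ω := IsScalarTower.of_algebraMap_eq fun x => by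
    show _ = φ (algebraMap D.KB D.KC (algebraMap k D.KB x))
    rw [← IsScalarTower.algebraMap_apply k D.KB D.KC, IsScalarTower.algebraMap_apply k K D.KC, hφ,
      ← IsScalarTower.algebraMap_apply k K Ω]
  let F0 := adjoin D.KB ({D.t} : Set D.KC)
  let b0 := Module.finBasisOfFinrankEq F0 D.KC D.finrank_eq
  let b : Fin e → Ω := fun i => φ (b0 i)
  let bK := Module.finBasis K D.KC
  let G : Set Ω := Set.range fun i => φ (bK i)
  haveI : FiniteDimensional K' (adjoin K' G) := by
    haveI : Finite G := (Set.finite_range _).to_subtype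
    exact finiteDimensional_adjoin fun x _ => (Algebra.IsIntegral.isIntegral x)
  let M := adjoin K' G
  have hφM : ∀ x : D.KC, φ x ∈ M := fun x => by
    rw [← bK.sum_repr x, map_sum]
    refine sum_mem fun i _ => ?_
    rw [Algebra.smul_def, map_mul, hφ, IsScalarTower.algebraMap_apply K K' Ω]
    exact mul_mem (M.algebraMap_mem _) (subset_adjoin K' _ ⟨i, rfl⟩)
  have hsepM : Algebra.IsSeparable K' M := by
    refine (isSeparable_adjoin_iff_isSeparable (F := K') (E := Ω)).2 ?_
    rintro _ ⟨i, rfl⟩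
    let φK : D.KC →ₐ[K] Ω := { φ.toRingHom with commutes' := hφ }
    exact IsSeparable.tower_top K' ((Algebra.IsSeparable.isSeparable K (bK i)).map φK (RingHom.injective _))
  let B : IntermediateField L Ω := adjoin L (Set.range (algebraMap D.KB Ω))
  have halg : ∀ x ∈ B, IsAlgebraic D.KB x := by
    let A : IntermediateField D.KB Ω := algebraicClosure D.KB Ω
    have hle : B.toSubfield ≤ A.toSubfield := by
      refine Subfield.closure_le.2 ?_
      rintro x (⟨y, rfl⟩ | ⟨y, rfl⟩)
      · refine mem_algebraicClosure_iff.2 (IsAlgebraic.tower_top (K := k) D.KB ?_)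
        exact ((Algebra.IsSeparable.isIntegral k y).map (IsScalarTower.toAlgHom k L Ω)).isAlgebraic
      · exact A.algebraMap_mem y
    exact fun x hx => mem_algebraicClosure_iff.1 (hle hx)
  have ht : Transcendental B (φ D.t) := by
    intro h
    letI : Algebra D.KB B := ((algebraMap D.KB Ω).codRestrict B.toSubfield
      fun x => subset_adjoin L _ ⟨x, rfl⟩).toAlgebra
    haveI : IsScalarTower D.KB B Ω := IsScalarTower.of_algebraMap_eq fun _ => rfl
    haveI : Algebra.IsAlgebraic D.KB B :=
      ⟨fun x => (isAlgebraic_algebraMap_iff (A := Ω) (algebraMap B Ω).injective).1 (halg x.1 x.2)⟩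
    exact D.transc ((isAlgebraic_algHom_iff φ φ.toRingHom.injective).1 (h.restrictScalars D.KB))
  let F := adjoin L ((B : Set Ω) ∪ {φ D.t})
  have hF : ∀ c ∈ F0, φ c ∈ F := by
    let P : IntermediateField D.KB D.KC :=
      { F.toSubfield.comap φ.toRingHom with
        algebraMap_mem' := fun x => by
          show φ (algebraMap D.KB D.KC x) ∈ F
          rw [φ.commutes]
          exact subset_adjoin L _ (Or.inl (subset_adjoin L _ ⟨x, rfl⟩)) }
    exact fun c hc => (adjoin_le_iff (T := P)).2
      (Set.singleton_subset_iff.2 (show φ D.t ∈ F from subset_adjoin L _ (Or.inr rfl))) hc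
  let N := Submodule.span F (Set.range b)
  have hKC : ∀ x : D.KC, φ x ∈ N := fun x => by
    rw [← b0.sum_repr x, map_sum]
    refine sum_mem fun i _ => ?_
    show φ ((b0.repr x i).1 * b0 i) ∈ N
    rw [map_mul]
    exact N.smul_mem (⟨_, hF _ (b0.repr x i).2⟩ : F) (Submodule.subset_span ⟨i, rfl⟩)
  obtain ⟨T, hT⟩ := exists_field_span F b (map_one φ ▸ hKC 1) fun i j => by
    show φ (b0 i) * φ (b0 j) ∈ N
    rw [← map_mul]
    exact hKC _
  have hTF : ∀ c ∈ F, c ∈ (T : Set Ω) := fun c hc => by
    rw [hT]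
    have := N.smul_mem (⟨c, hc⟩ : F) (map_one φ ▸ hKC 1 : (1 : Ω) ∈ N)
    rwa [show (⟨c, hc⟩ : F) • (1 : Ω) = c from mul_one c] at this
  have hK'T : ∀ z : K', algebraMap K' Ω z ∈ T := fun z =>
    mem_of_generators hK hL (T.toSubfield.comap (algebraMap K' Ω))
      (fun x => by
        show algebraMap K' Ω (algebraMap K K' x) ∈ (T : Set Ω)
        rw [hT, ← IsScalarTower.algebraMap_apply, ← hφ]
        exact hKC _)
      (fun x => by
        show algebraMap K' Ω (algebraMap L K' x) ∈ (T : Set Ω)
        rw [← IsScalarTower.algebraMap_apply]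
        exact hTF _ (F.algebraMap_mem x)) z
  have hspan : ∀ x ∈ M, x ∈ N := fun x hx => by
    have hle : M.toSubfield ≤ T.toSubfield := Subfield.closure_le.2 (by
      rintro y (⟨z, rfl⟩ | hy)
      · exact hK'T z
      · obtain ⟨i, rfl⟩ := hy
        show φ (bK i) ∈ (T : Set Ω)
        rw [hT]
        exact hKC _)
    have : x ∈ (T : Set Ω) := hle hx
    rwa [hT] at this
  have hB : B ≤ M.restrictScalars L := adjoin_le_iff.2 (by
    rintro _ ⟨x, rfl⟩
    show φ (algebraMap D.KB D.KC x) ∈ M
    exact hφM _)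
  obtain ⟨e', he', D', hD'⟩ := exists_diag (k := L) (K := K') M B hB (φ D.t) ht (hφM _) b
    (fun i => hφM _) hspan
  exact ⟨e', he', D', hD' hsepM⟩

include hK hL in
/-- From a diagram over `L` to one over `k`. -/
theorem down [Algebra.IsSeparable k L] (hfg : (⊤ : IntermediateField k K).FG) {e : ℕ}
    (D : CovDiag.{u} L K' e) (hD : Algebra.IsSeparable K' D.KC) :
    ∃ e' ≤ e, ∃ D' : CovDiag.{u} k K e', Algebra.IsSeparable K D'.KC := by
  classical
  haveI := hD
  haveI := isSeparable_K' hK hL
  letI : Algebra K D.KC := ((algebraMap K' D.KC).comp (algebraMap K K')).toAlgebra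
  haveI : IsScalarTower K K' D.KC := IsScalarTower.of_algebraMap_eq fun _ => rfl
  haveI : Algebra.IsSeparable K D.KC := Algebra.IsSeparable.trans K K' D.KC
  letI : Algebra k D.KC := ((algebraMap K D.KC).comp (algebraMap k K)).toAlgebra
  haveI : IsScalarTower k K D.KC := IsScalarTower.of_algebraMap_eq fun _ => rfl
  letI : Algebra k D.KB := ((algebraMap L D.KB).comp (algebraMap k L)).toAlgebra
  haveI : IsScalarTower k D.KB D.KC := IsScalarTower.of_algebraMap_eq fun x => by
    show algebraMap K' D.KC (algebraMap K K' (algebraMap k K x)) =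
      algebraMap D.KB D.KC (algebraMap L D.KB (algebraMap k L x))
    rw [← IsScalarTower.algebraMap_apply L D.KB D.KC, IsScalarTower.algebraMap_apply L K' D.KC,
      ← IsScalarTower.algebraMap_apply k K K', ← IsScalarTower.algebraMap_apply k L K']
  let F0 := adjoin D.KB ({D.t} : Set D.KC)
  let b0 := Module.finBasisOfFinrankEq F0 D.KC D.finrank_eq
  let FS : Finset D.KC → IntermediateField k D.KC := fun S => adjoin k ((S : Set D.KC) ∪ {D.t})
  have hfinite : ∀ c ∈ F0, ∃ S : Finset D.KC, (S : Set D.KC) ⊆ Set.range (algebraMap D.KB D.KC) ∧ c ∈ FS S := by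
    intro c hc
    have h1 : c ∈ adjoin k (Set.range (algebraMap D.KB D.KC) ∪ {D.t}) := by
      let P : IntermediateField D.KB D.KC :=
        { (adjoin k (Set.range (algebraMap D.KB D.KC) ∪ {D.t})).toSubfield with
          algebraMap_mem' := fun x => subset_adjoin k _ (Or.inl ⟨x, rfl⟩) }
      exact (adjoin_le_iff (T := P)).2 (Set.singleton_subset_iff.2 (subset_adjoin k _ (Or.inr rfl))) hc
    obtain ⟨U, hU, hcU⟩ := exists_finset_of_mem_adjoin h1
    refine ⟨U.filter (· ∈ Set.range (algebraMap D.KB D.KC)), fun x hx => (Finset.mem_filter.1 hx).2,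
      adjoin.mono k _ _ ?_ hcU⟩
    intro x hx
    rcases hU hx with h | h
    · exact Or.inl (Finset.mem_filter.2 ⟨hx, h⟩)
    · exact Or.inr h
  have hx : ∀ x : D.KC, ∃ S : Finset D.KC, (S : Set D.KC) ⊆ Set.range (algebraMap D.KB D.KC) ∧
      ∀ S' : Finset D.KC, S ⊆ S' → x ∈ Submodule.span (FS S') (Set.range b0) := fun x => by
    choose S hS hc using fun i => hfinite (b0.repr x i).1 (b0.repr x i).2
    refine ⟨Finset.univ.biUnion S, ?_, fun S' hS' => ?_⟩
    · intro y hy
      obtain ⟨i, -, hi⟩ := Finset.mem_biUnion.1 hy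
      exact hS i hi
    · refine (Submodule.mem_span_range_iff_exists_fun (FS S')).2 ⟨fun i => ⟨(b0.repr x i).1,
        adjoin.mono k _ _ (Set.union_subset_union_left _ (Finset.coe_subset.2
          ((Finset.subset_biUnion_of_mem S (Finset.mem_univ i)).trans hS'))) (hc i)⟩, ?_⟩
      exact b0.sum_repr x
  obtain ⟨g, hg⟩ := hfg
  let X : Finset D.KC := insert 1 (Finset.univ.image (fun p : Fin e × Fin e => b0 p.1 * b0 p.2) ∪
    g.image (algebraMap K D.KC))
  choose S hS hSx using hx
  let U := X.biUnion S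
  have hUr : (U : Set D.KC) ⊆ Set.range (algebraMap D.KB D.KC) := fun y hy => by
    obtain ⟨i, -, hi⟩ := Finset.mem_biUnion.1 hy
    exact hS i hi
  let N := Submodule.span (FS U) (Set.range b0)
  have hXN : ∀ x ∈ X, x ∈ N := fun x hxX => hSx x U (Finset.subset_biUnion_of_mem S hxX)
  obtain ⟨T, hT⟩ := exists_field_span (FS U) b0 (hXN 1 (Finset.mem_insert_self _ _)) fun i j =>
    hXN _ (Finset.mem_insert_of_mem (Finset.mem_union_left _ (Finset.mem_image.2 ⟨(i, j), Finset.mem_univ _, rfl⟩)))
  let G : Set D.KC := insert D.t (Set.range b0 ∪ (U : Set D.KC))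
  let M := adjoin K G
  haveI : FiniteDimensional K M := by
    haveI : Finite G := (((Set.finite_range b0).union U.finite_toSet).insert _).to_subtype
    exact finiteDimensional_adjoin fun x _ => Algebra.IsSeparable.isIntegral K x
  let B : IntermediateField k D.KC := adjoin k (U : Set D.KC)
  have hB : B ≤ M.restrictScalars k :=
    adjoin_le_iff.2 fun x hxU => subset_adjoin K _ (Or.inr (Or.inr hxU))
  have ht : Transcendental B D.t := by
    intro h
    have hle : B ≤ (IsScalarTower.toAlgHom k D.KB D.KC).fieldRange := adjoin_le_iff.2 fun x hxU => hUr hxU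
    obtain ⟨p, hp0, hp⟩ := h
    let ψ : B →+* D.KB := (algebraMap D.KB D.KC).rangeRestrictFieldEquiv.symm.toRingHom.comp
      { toFun := fun y => ⟨y.1, hle y.2⟩, map_one' := rfl, map_mul' := fun _ _ => rfl, map_zero' := rfl,
        map_add' := fun _ _ => rfl }
    refine D.transc ⟨p.map ψ, (Polynomial.map_ne_zero_iff ψ.injective).2 hp0, ?_⟩
    rw [Polynomial.aeval_def, Polynomial.eval₂_map]
    rw [Polynomial.aeval_def] at hp
    have hψ : (algebraMap D.KB D.KC).comp ψ = algebraMap B D.KC := RingHom.ext fun y =>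
      (algebraMap D.KB D.KC).rangeRestrictFieldEquiv_apply_symm_apply _
    rw [hψ]
    exact hp
  have hFU : ∀ c ∈ FS U, c ∈ (T : Set D.KC) := fun c hc => by
    rw [hT]
    have := N.smul_mem (⟨c, hc⟩ : FS U) (hXN 1 (Finset.mem_insert_self _ _))
    rwa [show (⟨c, hc⟩ : FS U) • (1 : D.KC) = c from mul_one c] at this
  have hKT : ∀ x : K, algebraMap K D.KC x ∈ T := fun x => by
    have : (⊤ : IntermediateField k K) ≤ T.comap (IsScalarTower.toAlgHom k K D.KC) := by
      rw [← hg]
      refine adjoin_le_iff.2 fun y hy => ?_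
      show algebraMap K D.KC y ∈ (T : Set D.KC)
      rw [hT]
      exact hXN _ (Finset.mem_insert_of_mem (Finset.mem_union_right _ (Finset.mem_image_of_mem _ hy)))
    exact this IntermediateField.mem_top
  have hspan : ∀ x ∈ M, x ∈ Submodule.span (adjoin k ((B : Set D.KC) ∪ {D.t})) (Set.range b0) := fun x hxM => by
    have hle : M.toSubfield ≤ T.toSubfield := Subfield.closure_le.2 (by
      rintro y (⟨z, rfl⟩ | hy)
      · exact hKT z
      · rcases hy with rfl | (⟨i, rfl⟩ | hy)
        · exact hFU _ (subset_adjoin k _ (Or.inr rfl))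
        · show b0 i ∈ (T : Set D.KC)
          rw [hT]
          exact Submodule.subset_span ⟨i, rfl⟩
        · exact hFU _ (subset_adjoin k _ (Or.inl hy)))
    have h1 : x ∈ (T : Set D.KC) := hle hxM
    rw [hT, SetLike.mem_coe, Submodule.mem_span_range_iff_exists_fun] at h1
    obtain ⟨c, hc⟩ := h1
    refine (Submodule.mem_span_range_iff_exists_fun _).2 ⟨fun i => ⟨(c i).1,
      adjoin.mono k _ _ (Set.union_subset_union_left _ (subset_adjoin k _)) (c i).2⟩, hc⟩
  obtain ⟨e', he', D', hD'⟩ := exists_diag (k := k) (K := K) M B hB D.t ht (subset_adjoin K _ (Or.inl rfl)) b0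
    (fun i => subset_adjoin K _ (Or.inr (Or.inl ⟨i, rfl⟩))) hspan
  exact ⟨e', he', D', hD' (Algebra.isSeparable_tower_bot_of_isSeparable K M D.KC)⟩

include hK hL in
/-- The separable covering gonality is unchanged by separable algebraic extensions of the ground field. -/
theorem scvg_eq [Algebra.IsSeparable k L] (hfg : (⊤ : IntermediateField k K).FG) :
    scvg L K' = scvg k K := by
  have h1 : ∀ e ∈ {e : ℕ | ∃ D : CovDiag.{u} k K e, Algebra.IsSeparable K D.KC},
      ∃ b ≤ e, b ∈ {e : ℕ | ∃ D : CovDiag.{u} L K' e, Algebra.IsSeparable K' D.KC} := fun e ⟨D, hD⟩ => by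
    obtain ⟨e', he, D', hD'⟩ := up hK hL D hD
    exact ⟨e', he, D', hD'⟩
  have h2 : ∀ e ∈ {e : ℕ | ∃ D : CovDiag.{u} L K' e, Algebra.IsSeparable K' D.KC},
      ∃ b ≤ e, b ∈ {e : ℕ | ∃ D : CovDiag.{u} k K e, Algebra.IsSeparable K D.KC} := fun e ⟨D, hD⟩ => by
    obtain ⟨e', he, D', hD'⟩ := down hK hL hfg D hD
    exact ⟨e', he, D', hD'⟩
  exact sInf_eq_of_forall h2 h1

end Groth.L29.Gonality
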